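import Mathlib
import Groth.Agent.Lib.Helper27.AS1

/-! # The Kummer-type polynomial `P` with `w ^ p * P = (1 + w X) ^ p - 1`, `w = 1 - ζ` -/

set_option autoImplicit false
set_option linter.style.haveILetI false

namespace Groth.Agent.Lib.Helper18.Kum

open Polynomial IsLocalRing Finset

universe u

variable {p : ℕ} {A : Type u} [CommRing A] [IsDomain A]

theorem zeta_prim (hp : p.Prime) [CharZero A] {ζ : A} (hζ : aeval ζ (cyclotomic p ℤ) = 0) :
    IsPrimitiveRoot ζ p := by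
  haveI : NeZero ((p : ℕ) : A) := ⟨by exact_mod_cast hp.ne_zero⟩
  rw [← Polynomial.isRoot_cyclotomic_iff, IsRoot.def, ← map_cyclotomic_int, eval_map]
  rw [aeval_def, algebraMap_int_eq] at hζ
  exact hζ

theorem w_ne_zero (hp : p.Prime) {ζ : A} (hprim : IsPrimitiveRoot ζ p) : 1 - ζ ≠ 0 := by
  intro h0
  have : ζ = 1 := (sub_eq_zero.mp h0).symm
  exact hprim.ne_one hp.one_lt this

theorem zeta_residue [IsLocalRing A] (hp : p.Prime) [CharP (ResidueField A) p] {ζ : A}
    (hprim : IsPrimitiveRoot ζ p) : residue A ζ = 1 := by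
  haveI : Fact p.Prime := ⟨hp⟩
  have h1 : (residue A ζ - 1) ^ p = 0 := by
    rw [sub_pow_char, one_pow, ← map_pow, hprim.pow_eq_one, map_one, sub_self]
  exact sub_eq_zero.mp ((pow_eq_zero_iff hp.ne_zero).mp h1)

theorem w_mem [IsLocalRing A] (hp : p.Prime) [CharP (ResidueField A) p] {ζ : A}
    (hprim : IsPrimitiveRoot ζ p) : 1 - ζ ∈ maximalIdeal A := by
  rw [← residue_eq_zero_iff, map_sub, map_one, zeta_residue hp hprim, sub_self]

theorem one_sub_zeta_pow (ζ : A) (i : ℕ) : 1 - ζ ^ i = (1 - ζ) * ∑ j ∈ range i, ζ ^ j :=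
  (mul_neg_geom_sum ζ i).symm

theorem P_eq_prod (hp : p.Prime) {ζ : A} (hprim : IsPrimitiveRoot ζ p) {P : A[X]}
    (hP : C ((1 - ζ) ^ p) * P = (1 + C (1 - ζ) * X) ^ p - 1) :
    P = ∏ i ∈ range p, (X + C (∑ j ∈ range i, ζ ^ j)) := by
  have hw := w_ne_zero hp hprim
  have h1 : (X ^ p - C (1 : A)) = ∏ i ∈ range p, (X - C (ζ ^ i * 1)) :=
    X_pow_sub_C_eq_prod hprim hp.pos (one_pow p)
  have h2 := congrArg (fun q => q.comp (1 + C (1 - ζ) * X)) h1
  simp only [sub_comp, pow_comp, X_comp, C_comp, Polynomial.prod_comp, mul_one] at h2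
  rw [C_1] at h2
  have h3 : ∀ i, (1 + C (1 - ζ) * X - C (ζ ^ i) : A[X]) =
      C (1 - ζ) * (X + C (∑ j ∈ range i, ζ ^ j)) := by
    intro i
    have h4 : C (1 - ζ ^ i) = (1 : A[X]) - C (ζ ^ i) := by rw [C_sub, C_1]
    rw [mul_add, ← C_mul, ← one_sub_zeta_pow, h4]; ring
  apply mul_left_cancel₀ (C_ne_zero.mpr (pow_ne_zero p hw))
  rw [hP, h2, prod_congr rfl (fun i _ => h3 i), prod_mul_distrib, prod_const, card_range,
    C_pow]

theorem P_monic (hp : p.Prime) {ζ : A} (hprim : IsPrimitiveRoot ζ p) {P : A[X]}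
    (hP : C ((1 - ζ) ^ p) * P = (1 + C (1 - ζ) * X) ^ p - 1) : P.Monic := by
  rw [P_eq_prod hp hprim hP]
  exact monic_prod_of_monic _ _ (fun i _ => monic_X_add_C _)

theorem P_natDegree (hp : p.Prime) {ζ : A} (hprim : IsPrimitiveRoot ζ p) {P : A[X]}
    (hP : C ((1 - ζ) ^ p) * P = (1 + C (1 - ζ) * X) ^ p - 1) : P.natDegree = p := by
  rw [P_eq_prod hp hprim hP, natDegree_prod_of_monic _ _ (fun i _ => monic_X_add_C _),
    sum_congr rfl (fun i _ => natDegree_X_add_C _)]
  simp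

theorem P_map [IsLocalRing A] (hp : p.Prime) [CharP (ResidueField A) p] {ζ : A}
    (hprim : IsPrimitiveRoot ζ p) {P : A[X]}
    (hP : C ((1 - ζ) ^ p) * P = (1 + C (1 - ζ) * X) ^ p - 1) :
    P.map (residue A) = X ^ p - X := by
  haveI : Fact p.Prime := ⟨hp⟩
  rw [P_eq_prod hp hprim hP, Polynomial.map_prod]
  have hfac : ∀ i ∈ range p, (X + C (∑ j ∈ range i, ζ ^ j) : A[X]).map (residue A) =
      X + C ((i : ℕ) : ResidueField A) := by
    intro i _
    rw [Polynomial.map_add, map_X, map_C, map_sum]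
    simp only [map_pow, zeta_residue hp hprim, one_pow, sum_const, card_range, nsmul_eq_mul,
      mul_one]
  rw [prod_congr rfl hfac]
  have h0 : ((p : ℕ) : (ResidueField A)[X]) = 0 := by
    rw [← map_natCast (C : ResidueField A →+* (ResidueField A)[X]), CharP.cast_eq_zero, map_zero]
  haveI : CharP (ResidueField A)[X] p := by infer_instance
  have h1 := Groth.Agent.Lib.Helper27.AS.prod_range_sub_eq p h0 (-X : (ResidueField A)[X])
  have h2 : ∀ i ∈ range p, (X + C ((i : ℕ) : ResidueField A) : (ResidueField A)[X]) =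
      (-1) * (-X - ((i : ℕ) : (ResidueField A)[X])) := by
    intro i _
    rw [map_natCast]; ring
  rw [prod_congr rfl h2, prod_mul_distrib, prod_const, card_range, h1]
  have h3 : ((-1 : (ResidueField A)[X])) ^ p = -1 := neg_one_pow_char _ p
  have h4 : (-X : (ResidueField A)[X]) ^ p = (-1) ^ p * X ^ p := by rw [← mul_pow]; ring
  rw [h4, h3]
  ring

/-- The functional equation of `P` in any `A`-algebra. -/
theorem aeval_P {B : Type*} [CommRing B] [Algebra A B] {ζ : A} {P : A[X]}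
    (hP : C ((1 - ζ) ^ p) * P = (1 + C (1 - ζ) * X) ^ p - 1) (t : B) :
    algebraMap A B (1 - ζ) ^ p * aeval t P = (1 + algebraMap A B (1 - ζ) * t) ^ p - 1 := by
  have := congrArg (aeval t) hP
  simp only [map_mul, aeval_C, map_sub, map_pow, map_add, aeval_X, map_one] at this
  rw [map_sub, map_one]
  exact this

end Groth.Agent.Lib.Helper18.Kum
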