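import Mathlib

/-! # Kummer extensions of prime degree: Galois, degree `1` or `p` -/

set_option autoImplicit false
set_option linter.style.haveILetI false

namespace Groth.Agent.Lib.Helper18.Kum

open Polynomial IntermediateField

universe u

variable {p : ℕ} {K L : Type u} [Field K] [Field L] [Algebra K L]

theorem kum_isIntegral (hp : p.Prime) {y : L} {c : K} (hy : y ^ p = algebraMap K L c) :
    IsIntegral K y :=
  ⟨X ^ p - C c, monic_X_pow_sub_C c hp.ne_zero, by
    rw [← aeval_def, map_sub, map_pow, aeval_X, aeval_C, hy, sub_self]⟩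

theorem kum_finiteDimensional (hp : p.Prime) {y : L} {c : K} (hy : y ^ p = algebraMap K L c)
    (hgen : K⟮y⟯ = ⊤) : FiniteDimensional K L := by
  haveI : FiniteDimensional K K⟮y⟯ := adjoin.finiteDimensional (kum_isIntegral hp hy)
  rw [hgen] at this
  exact LinearEquiv.finiteDimensional (topEquiv (F := K) (E := L)).toLinearEquiv

theorem kum_adjoin_eq_top (hp : p.Prime) {y : L} {c : K} (hy : y ^ p = algebraMap K L c)
    (hgen : K⟮y⟯ = ⊤) : Algebra.adjoin K {y} = ⊤ := by
  have h1 := adjoin_simple_toSubalgebra_of_isAlgebraic (kum_isIntegral hp hy).isAlgebraic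
  rw [hgen] at h1
  rw [← h1]
  rfl

/-- If the generator lies in `K` then the extension is trivial. -/
theorem trivial_of_mem {y : L} (hgen : K⟮y⟯ = ⊤) (hy : y ∈ Set.range (algebraMap K L)) :
    IsGalois K L ∧ Module.finrank K L = 1 := by
  have hbt : (⊥ : IntermediateField K L) = ⊤ := by
    rw [← hgen, eq_comm, adjoin_simple_eq_bot_iff]
    exact IntermediateField.mem_bot.mpr hy
  refine ⟨?_, bot_eq_top_iff_finrank_eq_one.mp hbt⟩
  let e : (⊥ : IntermediateField K L) ≃ₐ[K] L := (equivOfEq hbt).trans topEquiv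
  exact IsGalois.of_algEquiv e

/-- A Kummer extension of prime degree `p` over a field containing a primitive `p`-th root of unity
is Galois, of degree `1` or `p`. -/
theorem kum_galois (hp : p.Prime) {ζ : K} (hprim : IsPrimitiveRoot ζ p) {y : L} {c : K}
    (hy : y ^ p = algebraMap K L c) (hgen : K⟮y⟯ = ⊤) :
    IsGalois K L ∧ (Module.finrank K L = 1 ∨ Module.finrank K L = p) := by
  haveI : NeZero p := ⟨hp.ne_zero⟩
  by_cases hc : ∃ b : K, b ^ p = c
  · obtain ⟨b, rfl⟩ := hc
    have hmem : y ∈ Set.range (algebraMap K L) := by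
      by_cases hb : b = 0
      · rw [hb, zero_pow hp.ne_zero, map_zero] at hy
        exact ⟨0, by rw [map_zero, pow_eq_zero_iff hp.ne_zero |>.mp hy]⟩
      · have hb' : algebraMap K L b ≠ 0 := by
          rw [Ne, map_eq_zero]; exact hb
        have h1 : (y / algebraMap K L b) ^ p = 1 := by
          rw [div_pow, hy, map_pow, div_self (pow_ne_zero _ hb')]
        have hprim' : IsPrimitiveRoot (algebraMap K L ζ) p :=
          hprim.map_of_injective (algebraMap K L).injective
        obtain ⟨i, -, hi⟩ := hprim'.eq_pow_of_pow_eq_one h1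
        refine ⟨ζ ^ i * b, ?_⟩
        rw [map_mul, map_pow, hi, div_mul_cancel₀ _ hb']
    obtain ⟨h1, h2⟩ := trivial_of_mem hgen hmem
    exact ⟨h1, Or.inl h2⟩
  · push_neg at hc
    have H : Irreducible (X ^ p - C c : K[X]) := X_pow_sub_C_irreducible_of_prime hp hc
    have hζ : (primitiveRoots p K).Nonempty := ⟨ζ, (mem_primitiveRoots hp.pos).mpr hprim⟩
    haveI : (X ^ p - C c : K[X]).IsSplittingField K L := by
      constructor
      · rw [Polynomial.map_sub, Polynomial.map_pow, Polynomial.map_C, Polynomial.map_X]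
        exact X_pow_sub_C_splits_of_isPrimitiveRoot
          (hprim.map_of_injective (algebraMap K L).injective) hy
      · rw [eq_top_iff, ← kum_adjoin_eq_top hp hy hgen]
        apply Algebra.adjoin_mono
        intro x hx
        rw [Set.mem_singleton_iff] at hx
        rw [hx, mem_rootSet]
        refine ⟨(monic_X_pow_sub_C c hp.ne_zero).ne_zero, ?_⟩
        rw [map_sub, map_pow, aeval_X, aeval_C, hy, sub_self]
    exact ⟨isGalois_of_isSplittingField_X_pow_sub_C hζ H L,
      Or.inr (finrank_of_isSplittingField_X_pow_sub_C hζ H L)⟩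

end Groth.Agent.Lib.Helper18.Kum
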