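import Mathlib
import Groth.Prelude.Def_EtRam
import Groth.Agent.Lib.Helper18.AS.CaseB

/-! # Generic criteria for the cases (2), (3), (4) of a degree `p` extension of a DVR -/

set_option autoImplicit false
set_option linter.style.haveILetI false

namespace Groth.Agent.Lib.Helper18.Kum

open Polynomial IntermediateField IsLocalRing
open Groth.Agent.Lib.Helper18.Unram Groth.Agent.Lib.Helper18.Eis Groth.Agent.Lib.Helper18.AS

universe u

variable {p : ℕ} {A K L : Type u} [CommRing A] [IsDomain A]
  [IsDiscreteValuationRing A] [Field K] [Algebra A K] [IsFractionRing A K] [Field L] [Algebra K L]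
  [Algebra A L] [IsScalarTower A K L]

/-- The residue class of a root of `Q` is a root of the reduction of `Q`. -/
theorem residue_root (V : ValuationSubring L) (hV : EtRam.Dominates A (algebraMap A L) V) :
    letI : Algebra A V := (RingHom.codRestrict (algebraMap A L) V hV.1).toAlgebra
    ∀ [IsLocalHom (algebraMap A V)] {y : L} (hyV : y ∈ V) {Q : A[X]} (_ : aeval y Q = 0),
      aeval (residue V ⟨y, hyV⟩) (Q.map (residue A)) = 0 := by
  letI algAV : Algebra A V := (RingHom.codRestrict (algebraMap A L) V hV.1).toAlgebra
  intro hloc y hyV Q hroot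
  rw [aeval_def, eval₂_map]
  have h1 : (algebraMap (ResidueField A) (ResidueField V)).comp (residue A) =
      (residue V).comp (algebraMap A V) := by
    ext a
    exact ResidueField.algebraMap_residue a
  rw [h1, ← hom_eval₂]
  have h2 : eval₂ (algebraMap A V) (⟨y, hyV⟩ : V) Q = 0 := by
    apply Subtype.ext
    have := hom_eval₂ Q (algebraMap A V) V.subtype ⟨y, hyV⟩
    refine this.trans ?_
    rw [aeval_def] at hroot
    exact hroot
  rw [h2, map_zero]

/-- Criterion for case (2): a generator whose minimal equation has separable reduction. -/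
theorem unramifiedExt_of_separable {π : A} (hπ : Irreducible π) {z : L} {Q : A[X]} (hQ : Q.Monic)
    (hroot : aeval z Q = 0) (hgen : Algebra.adjoin K {z} = ⊤)
    (hsep : (Q.map (residue A)).Separable) : EtRam.IsUnramifiedExt A (algebraMap A L) := by
  have hM : MonoData (K := K) π z Q :=
    { hπ := hπ
      monic := hQ
      root := hroot
      gen := hgen
      red := by
        apply isReduced_adjoinRoot_of_fiberwise_squarefree _ (hQ.map _)
        intro 𝔭 _
        exact (hsep.map).squarefree }
  intro V hV
  letI algAV : Algebra A V := (RingHom.codRestrict (algebraMap A L) V hV.1).toAlgebra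
  intro hloc
  refine ⟨weaklyUnramified_of_mono hM V hV, ?_⟩
  have hzV := hM.y_mem V hV
  set zbar : ResidueField V := residue V ⟨z, hzV⟩ with hzbar
  have hres : ∀ a : A, residue V ⟨algebraMap A L a, hV.1 a⟩ =
      algebraMap (ResidueField A) (ResidueField V) (residue A a) := fun a =>
    (ResidueField.algebraMap_residue a).symm
  have hzroot : aeval zbar (Q.map (residue A)) = 0 := residue_root V hV hzV hroot
  have hzsep : IsSeparable (ResidueField A) zbar := hsep.of_dvd (minpoly.dvd _ _ hzroot)
  rw [← separableClosure.eq_top_iff, eq_top_iff]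
  intro x _
  refine hM.residue_mem V hV (separableClosure (ResidueField A) (ResidueField V)).toSubfield
    (fun a => ?_) ?_ x
  · rw [hres]
    exact (separableClosure (ResidueField A) (ResidueField V)).algebraMap_mem _
  · exact mem_separableClosure_iff.mpr hzsep

/-- Criterion for case (4): a generator whose minimal equation reduces to `X ^ p - ā` with `ā` not
a `p`-th power. -/
theorem case4_of_mono (hp : p.Prime) [CharP (ResidueField A) p] {π : A} (hπ : Irreducible π)
    {y : L} {Q : A[X]} (hQ : Q.Monic) (hroot : aeval y Q = 0) (hgen : Algebra.adjoin K {y} = ⊤)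
    (a : A) (hQmap : Q.map (residue A) = X ^ p - C (residue A a))
    (ha : ∀ r : A, residue A a ≠ residue A r ^ p) : Case4 p A L := by
  have hirr : Irreducible (X ^ p - C (residue A a) : (ResidueField A)[X]) := by
    apply X_pow_sub_C_irreducible_of_prime hp
    intro b
    obtain ⟨r, rfl⟩ := residue_surjective b
    exact (ha r).symm
  haveI : Fact (Irreducible (Q.map (residue A))) := ⟨by rw [hQmap]; exact hirr⟩
  have hF : IsField (AdjoinRoot (Q.map (residue A))) := (AdjoinRoot.instField).toIsField
  have hM : MonoData (K := K) π y Q :=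
    { hπ := hπ
      monic := hQ
      root := hroot
      gen := hgen
      red := by
        haveI : IsDomain (AdjoinRoot (Q.map (residue A))) := hF.isDomain
        infer_instance }
  refine ⟨exists_dominates A K L, fun V V' hV hV' => hM.unique_of_isField hF V V' hV hV', ?_⟩
  intro V hV
  letI algAV : Algebra A V := (RingHom.codRestrict (algebraMap A L) V hV.1).toAlgebra
  intro hloc
  refine ⟨weaklyUnramified_of_mono hM V hV, ?_⟩
  have hyV := hM.y_mem V hV
  set ybar : ResidueField V := residue V ⟨y, hyV⟩ with hybar
  have hres : ∀ a : A, residue V ⟨algebraMap A L a, hV.1 a⟩ =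
      algebraMap (ResidueField A) (ResidueField V) (residue A a) := fun a =>
    (ResidueField.algebraMap_residue a).symm
  have hyroot : aeval ybar (Q.map (residue A)) = 0 := residue_root V hV hyV hroot
  have hypow : ybar ^ p = algebraMap (ResidueField A) (ResidueField V) (residue A a) := by
    rw [hQmap, map_sub, map_pow, aeval_X, aeval_C, sub_eq_zero] at hyroot
    exact hyroot
  have hnp : ∀ b : ResidueField A, b ^ p ≠ residue A a := by
    intro b
    obtain ⟨r, rfl⟩ := residue_surjective b
    exact (ha r).symm
  exact purelyInsep_of_root p hp ybar (residue A a) hypow hnp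
    (fun S hS₁ hS₂ x => hM.residue_mem V hV S (fun a' => by rw [hres]; exact hS₁ _) hS₂ x)

/-- Criterion for case (3): an element whose `p`-th power has the value of a uniformiser. -/
theorem case3_of_val (hp : p.Prime) [FiniteDimensional K L]
    (hdeg : Module.finrank K L = 1 ∨ Module.finrank K L = p) (π : A)
    (hπ : maximalIdeal A = Ideal.span {π}) (θ : L)
    (hvalθ : ∀ V : ValuationSubring L, EtRam.Dominates A (algebraMap A L) V →
      V.valuation θ ^ p = V.valuation (algebraMap A L π)) : Case3 p A K L := by
  have hp1 := hp.one_lt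
  have hirr : Irreducible π := (IsDiscreteValuationRing.irreducible_iff_uniformizer π).mpr hπ
  have hπmem : π ∈ maximalIdeal A := by rw [hπ]; exact Ideal.mem_span_singleton_self π
  have hπL0 : algebraMap A L π ≠ 0 := fun h0 =>
    hirr.ne_zero (algebraMap_injective' A K L (h0.trans (map_zero _).symm))
  obtain ⟨V₀, hV₀⟩ := exists_dominates A K L
  have hθ0 : θ ≠ 0 := by
    intro h0
    have := hvalθ V₀ hV₀
    rw [h0, map_zero, zero_pow hp.ne_zero] at this
    exact (Valuation.ne_zero_iff _).mpr hπL0 this.symm
  have hθnot : θ ∉ Set.range (algebraMap K L) := by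
    rintro ⟨c, hc⟩
    have hc0 : c ≠ 0 := by
      intro h0; rw [h0, map_zero] at hc; exact hθ0 hc.symm
    obtain ⟨m, hm, -⟩ := val_algebraMap_K π hπ V₀ hV₀ hc0
    have h1 := hvalθ V₀ hV₀
    rw [← hc, hm, ← zpow_natCast, ← zpow_mul] at h1
    have hπv0 : 0 < V₀.valuation (algebraMap A L π) :=
      zero_lt_iff.mpr ((Valuation.ne_zero_iff _).mpr hπL0)
    have hπlt : V₀.valuation (algebraMap A L π) < 1 := hV₀.2 π hπmem
    have h2 : m * (p : ℤ) = 1 := by
      apply zpow_right_injective₀ hπv0 hπlt.ne
      simp only
      rw [h1, zpow_one]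
    have h3 : ((p : ℤ)) ∣ 1 := ⟨m, by rw [← h2]; ring⟩
    have h4 : (p : ℤ) ≤ 1 := Int.le_of_dvd one_pos h3
    omega
  have hdeg' : Module.finrank K L = p := by
    rcases hdeg with h1 | h1
    · exfalso
      have hbt : (⊥ : IntermediateField K L) = ⊤ := bot_eq_top_iff_finrank_eq_one.mpr h1
      have : θ ∈ (⊥ : IntermediateField K L) := by rw [hbt]; trivial
      exact hθnot (IntermediateField.mem_bot.mp this)
    · exact h1
  haveI : IsSimpleOrder (IntermediateField K L) :=
    isSimpleOrder_of_finrank_prime K L (by rw [hdeg']; exact hp)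
  have htop : K⟮θ⟯ = ⊤ := by
    rcases eq_bot_or_eq_top K⟮θ⟯ with h | h
    · exfalso
      have : θ ∈ (⊥ : IntermediateField K L) := by rw [← h]; exact mem_adjoin_simple_self K θ
      exact hθnot (IntermediateField.mem_bot.mp this)
    · exact h
  have hθint : IsIntegral K θ := Algebra.IsIntegral.isIntegral θ
  have htop' : Algebra.adjoin K {θ} = ⊤ := by
    have h1 := adjoin_simple_toSubalgebra_of_isAlgebraic hθint.isAlgebraic
    rw [htop] at h1
    exact h1.symm
  set pb : PowerBasis K L := PowerBasis.ofAdjoinEqTop hθint htop' with hpb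
  have hdim : pb.dim = p := by rw [← pb.finrank, hdeg']
  have hE : EisVal π pb :=
    { hπ := hπ
      hval := by
        intro V hV
        rw [hdim, hpb, PowerBasis.ofAdjoinEqTop_gen]
        exact hvalθ V hV }
  exact ⟨hE.isTotallyRamified, hdeg'⟩

/-- Case (3) from an element whose `p`-th power has value `v(π) ^ j` with `j` prime to `p`. -/
theorem case3_of_val_pow (hp : p.Prime) [FiniteDimensional K L]
    (hdeg : Module.finrank K L = 1 ∨ Module.finrank K L = p) (π : A)
    (hπ : maximalIdeal A = Ideal.span {π}) (y : L) (hy0 : y ≠ 0) (j : ℤ) (hj : ¬ (p : ℤ) ∣ j)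
    (hval : ∀ V : ValuationSubring L, EtRam.Dominates A (algebraMap A L) V →
      V.valuation y ^ p = V.valuation (algebraMap A L π) ^ j) : Case3 p A K L := by
  have hirr : Irreducible π := (IsDiscreteValuationRing.irreducible_iff_uniformizer π).mpr hπ
  have hπL0 : algebraMap A L π ≠ 0 := fun h0 =>
    hirr.ne_zero (algebraMap_injective' A K L (h0.trans (map_zero _).symm))
  have hcop : IsCoprime (p : ℤ) j := by
    have hpz : Prime (p : ℤ) := Nat.prime_iff_prime_int.mp hp
    exact (Prime.coprime_iff_not_dvd hpz).mpr hj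
  obtain ⟨s, t, hst⟩ := hcop
  -- `s * p + t * j = 1`
  refine case3_of_val hp hdeg π hπ (algebraMap A L π ^ s * y ^ t) ?_
  intro V hV
  have h2 := hval V hV
  have hπv0 : V.valuation (algebraMap A L π) ≠ 0 := (Valuation.ne_zero_iff _).mpr hπL0
  have h3 : (V.valuation y ^ t) ^ p = V.valuation (algebraMap A L π) ^ (j * t) := by
    rw [← zpow_natCast (_ ^ t) p, ← zpow_mul, mul_comm t (p : ℤ), zpow_mul, zpow_natCast,
      h2, ← zpow_mul]
  have h4 : (V.valuation (algebraMap A L π) ^ s) ^ p =
      V.valuation (algebraMap A L π) ^ (s * (p : ℤ)) := by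
    rw [← zpow_natCast (_ ^ s) p, ← zpow_mul]
  rw [map_mul, map_zpow₀, map_zpow₀, mul_pow, h3, h4, ← zpow_add₀ hπv0]
  have : s * (p : ℤ) + j * t = 1 := by rw [← hst]; ring
  rw [this, zpow_one]

end Groth.Agent.Lib.Helper18.Kum
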