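import Mathlib
import Groth.Prelude.Def_EtRam
import Groth.Agent.Lib.Helper18.Kum.Generic
import Groth.Agent.Lib.Helper18.Kum.Basic
import Groth.Agent.Lib.Helper18.Kum.Galois

/-! # Kummer-type extensions `P(z) = ξ` of the fraction field of a DVR: cases (A), (B), (C) -/

set_option autoImplicit false
set_option linter.style.haveILetI false

namespace Groth.Agent.Lib.Helper18.Kum

open Polynomial IntermediateField IsLocalRing
open Groth.Agent.Lib.Helper18.Unram Groth.Agent.Lib.Helper18.Eis Groth.Agent.Lib.Helper18.AS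

universe u

section Val

variable {A K L : Type u} [CommRing A] [IsDomain A]
  [IsDiscreteValuationRing A] [Field K] [Algebra A K] [IsFractionRing A K] [Field L] [Algebra K L]
  [Algebra A L] [IsScalarTower A K L]

theorem aeval_mem (V : ValuationSubring L) (hV : EtRam.Dominates A (algebraMap A L) V) {z : L}
    (hz : z ∈ V) (Q : A[X]) : aeval z Q ∈ V := by
  rw [aeval_eq_sum_range]
  refine sum_mem fun i _ => ?_
  rw [Algebra.smul_def]
  exact mul_mem (hV.1 _) (pow_mem hz i)

/-- The value of a monic polynomial at an element of value `> 1`. -/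
theorem val_aeval_monic (V : ValuationSubring L) (hV : EtRam.Dominates A (algebraMap A L) V)
    {Q : A[X]} (hQ : Q.Monic) {z : L} (hz : 1 < V.valuation z) :
    V.valuation (aeval z Q) = V.valuation z ^ Q.natDegree := by
  have hsum : aeval z Q = z ^ Q.natDegree +
      ∑ i ∈ Finset.range Q.natDegree, algebraMap A L (Q.coeff i) * z ^ i := by
    conv_lhs => rw [hQ.as_sum]
    simp only [map_add, map_pow, aeval_X, map_sum, map_mul, aeval_C]
  have hlt : V.valuation (∑ i ∈ Finset.range Q.natDegree, algebraMap A L (Q.coeff i) * z ^ i) <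
      V.valuation (z ^ Q.natDegree) := by
    apply Valuation.map_sum_lt
    · rw [map_pow]
      exact pow_ne_zero _ (zero_lt_one.trans hz).ne'
    · intro i hi
      rw [Finset.mem_range] at hi
      rw [map_mul, map_pow, map_pow]
      calc V.valuation (algebraMap A L (Q.coeff i)) * V.valuation z ^ i
          ≤ 1 * V.valuation z ^ i :=
            mul_le_mul' ((V.valuation_le_one_iff _).mpr (hV.1 _)) le_rfl
        _ = V.valuation z ^ i := one_mul _
        _ < V.valuation z ^ Q.natDegree := pow_lt_pow_right₀ hz hi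
  rw [hsum, Valuation.map_add_eq_of_lt_left _ hlt, map_pow]

end Val

/-- The data of the Kummer-type polynomial. -/
structure KumData {A : Type u} [CommRing A] (p : ℕ) (ζ : A) (P : A[X]) : Prop where
  hp : p.Prime
  prim : IsPrimitiveRoot ζ p
  hP : C ((1 - ζ) ^ p) * P = (1 + C (1 - ζ) * X) ^ p - 1

variable {p : ℕ} {A K L : Type u} [CommRing A] [IsDomain A]
  [IsDiscreteValuationRing A] [Field K] [Algebra A K] [IsFractionRing A K] [Field L] [Algebra K L]
  [Algebra A L] [IsScalarTower A K L] [CharP (ResidueField A) p]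

namespace KumData

variable {ζ : A} {P : A[X]} (h : KumData p ζ P)
include h

theorem monic : P.Monic := P_monic h.hp h.prim h.hP

theorem natDegree : P.natDegree = p := P_natDegree h.hp h.prim h.hP

theorem wK_ne_zero (K : Type u) [Field K] [Algebra A K] [IsFractionRing A K] :
    algebraMap A K (1 - ζ) ≠ 0 := fun h0 =>
  w_ne_zero h.hp h.prim (IsFractionRing.injective A K (h0.trans (map_zero _).symm))

omit [CharP (ResidueField A) p] in
theorem wL_ne_zero (K : Type u) [Field K] [Algebra A K] [IsFractionRing A K] [Algebra K L]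
    [IsScalarTower A K L] : algebraMap A L (1 - ζ) ≠ 0 := fun h0 =>
  w_ne_zero h.hp h.prim (algebraMap_injective' A K L (h0.trans (map_zero _).symm))

theorem primK (K : Type u) [Field K] [Algebra A K] [IsFractionRing A K] :
    IsPrimitiveRoot (algebraMap A K ζ) p :=
  h.prim.map_of_injective (IsFractionRing.injective A K)

section Gen

variable {ξ : K} {z : L} (hz : aeval z P = algebraMap K L ξ)
include hz

/-- The Kummer generator `y = 1 + w z` satisfies `y ^ p = 1 + w ^ p ξ`. -/
theorem y_pow : (1 + algebraMap A L (1 - ζ) * z) ^ p =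
    algebraMap K L (1 + algebraMap A K (1 - ζ) ^ p * ξ) := by
  have := aeval_P h.hP z
  rw [map_add, map_one, map_mul, map_pow, ← IsScalarTower.algebraMap_apply, ← hz, this]
  ring

omit hz in
theorem adjoin_y (z : L) : K⟮1 + algebraMap A L (1 - ζ) * z⟯ = K⟮z⟯ := by
  have hw := h.wL_ne_zero (L := L) K
  have hwK : algebraMap A L (1 - ζ) ∈ K⟮z⟯ := by
    rw [IsScalarTower.algebraMap_apply A K L]; exact K⟮z⟯.algebraMap_mem _
  have hwK' : algebraMap A L (1 - ζ) ∈ K⟮1 + algebraMap A L (1 - ζ) * z⟯ := by
    rw [IsScalarTower.algebraMap_apply A K L]; exact IntermediateField.algebraMap_mem _ _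
  apply le_antisymm
  · rw [adjoin_simple_le_iff]
    exact add_mem (one_mem _) (mul_mem hwK (mem_adjoin_simple_self K z))
  · rw [adjoin_simple_le_iff]
    have h1 := mem_adjoin_simple_self K (1 + algebraMap A L (1 - ζ) * z)
    have h2 := sub_mem h1 (one_mem _)
    have h3 := mul_mem (inv_mem hwK') h2
    have h4 : (algebraMap A L (1 - ζ))⁻¹ * (1 + algebraMap A L (1 - ζ) * z - 1) = z := by
      field_simp
      ring
    rwa [h4] at h3

theorem galois (hgen : K⟮z⟯ = ⊤) :
    IsGalois K L ∧ (Module.finrank K L = 1 ∨ Module.finrank K L = p) :=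
  kum_galois h.hp (h.primK K) (h.y_pow hz) (by rw [h.adjoin_y, hgen])

theorem finiteDimensional (hgen : K⟮z⟯ = ⊤) : FiniteDimensional K L :=
  kum_finiteDimensional h.hp (h.y_pow hz) (by rw [h.adjoin_y, hgen])

theorem adjoin_eq_top (hgen : K⟮z⟯ = ⊤) : Algebra.adjoin K {z} = ⊤ := by
  haveI := h.finiteDimensional hz hgen
  have hint : IsIntegral K z := Algebra.IsIntegral.isIntegral z
  have h1 := adjoin_simple_toSubalgebra_of_isAlgebraic hint.isAlgebraic
  rw [hgen] at h1
  rw [← h1]
  rfl

/-- Case (A): `ξ` integral. -/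
theorem caseA (hgen : K⟮z⟯ = ⊤) (π : A) (hπ : Irreducible π) (a₀ : A)
    (ha₀ : algebraMap A K a₀ = ξ) : Module.finrank K L = 1 ∨ Case2 p A K L := by
  haveI : Fact p.Prime := ⟨h.hp⟩
  rcases (h.galois hz hgen).2 with h1 | hpdeg
  · exact Or.inl h1
  right
  refine ⟨?_, hpdeg⟩
  have hdeg : (C a₀ : A[X]).degree < P.degree := by
    rw [degree_eq_natDegree h.monic.ne_zero, h.natDegree]
    exact lt_of_le_of_lt degree_C_le (by exact_mod_cast h.hp.pos)
  have hQ : (P - C a₀).Monic := h.monic.sub_of_left hdeg
  have hroot : aeval z (P - C a₀) = 0 := by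
    rw [map_sub, aeval_C, hz, IsScalarTower.algebraMap_apply A K L, ha₀, sub_self]
  have hsep : ((P - C a₀).map (residue A)).Separable := by
    rw [Polynomial.map_sub, map_C, P_map h.hp h.prim h.hP]
    exact asPoly_separable (residue A a₀)
  exact unramifiedExt_of_separable hπ hQ hroot (h.adjoin_eq_top hz hgen) hsep

/-- The value of `z` when `ξ` has a pole of order `n`. -/
theorem val_z_pow (π : A) (hπ : maximalIdeal A = Ideal.span {π}) (n : ℕ) (a : Aˣ) (hn : 0 < n)
    (hξ : ξ * algebraMap A K π ^ n = algebraMap A K a)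
    (V : ValuationSubring L) (hV : EtRam.Dominates A (algebraMap A L) V) :
    V.valuation z ^ p * V.valuation (algebraMap A L π) ^ n = 1 := by
  have hπmem : π ∈ maximalIdeal A := by rw [hπ]; exact Ideal.mem_span_singleton_self π
  have hπlt : V.valuation (algebraMap A L π) < 1 := hV.2 π hπmem
  have hξL : algebraMap K L ξ * algebraMap A L π ^ n = algebraMap A L a := by
    rw [IsScalarTower.algebraMap_apply A K L, IsScalarTower.algebraMap_apply A K L, ← map_pow,
      ← map_mul, hξ]
  have hvξ : V.valuation (algebraMap K L ξ) * V.valuation (algebraMap A L π) ^ n = 1 := by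
    rw [← map_pow, ← map_mul, hξL, val_unit V hV a]
  have hπn_lt : V.valuation (algebraMap A L π) ^ n < 1 := pow_lt_one₀ zero_le' hπlt hn.ne'
  have hξgt : 1 < V.valuation (algebraMap K L ξ) := by
    by_contra hle
    rw [not_lt] at hle
    have : V.valuation (algebraMap K L ξ) * V.valuation (algebraMap A L π) ^ n < 1 :=
      mul_lt_one_of_nonneg_of_lt_one_right hle zero_le' hπn_lt
    exact this.ne hvξ
  have hzgt : 1 < V.valuation z := by
    by_contra hle
    rw [not_lt] at hle
    have h1 : V.valuation (aeval z P) ≤ 1 :=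
      (V.valuation_le_one_iff _).mpr (aeval_mem V hV ((V.valuation_le_one_iff _).mp hle) P)
    rw [hz] at h1
    exact absurd hξgt (not_lt.mpr h1)
  have := val_aeval_monic V hV h.monic hzgt
  rw [h.natDegree, hz] at this
  rw [← this, hvξ]

/-- Case (B): pole order prime to `p`. -/
theorem caseB (hgen : K⟮z⟯ = ⊤) (π : A) (hπ : maximalIdeal A = Ideal.span {π}) (n : ℕ) (a : Aˣ)
    (hn : 0 < n) (hpn : ¬ p ∣ n) (hξ : ξ * algebraMap A K π ^ n = algebraMap A K a) :
    Case3 p A K L := by
  haveI := h.finiteDimensional hz hgen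
  have hirr : Irreducible π := (IsDiscreteValuationRing.irreducible_iff_uniformizer π).mpr hπ
  have hπL0 : algebraMap A L π ≠ 0 := fun h0 =>
    hirr.ne_zero (algebraMap_injective' A K L (h0.trans (map_zero _).symm))
  obtain ⟨V₀, hV₀⟩ := exists_dominates A K L
  have hz0 : z ≠ 0 := by
    intro h0
    have := h.val_z_pow hz π hπ n a hn hξ V₀ hV₀
    rw [h0, map_zero, zero_pow h.hp.ne_zero, zero_mul] at this
    exact zero_ne_one this
  refine case3_of_val_pow h.hp (h.galois hz hgen).2 π hπ z hz0 (-(n : ℤ)) ?_ ?_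
  · rw [dvd_neg]
    exact fun hd => hpn (Int.natCast_dvd_natCast.mp hd)
  · intro V hV
    have h1 := h.val_z_pow hz π hπ n a hn hξ V hV
    rw [zpow_neg, zpow_natCast]
    exact eq_inv_of_mul_eq_one_left h1

omit hz in
/-- The reduction of `scaleRoots P s` for `s` in the maximal ideal. -/
theorem scaleRoots_map {s : A} (hs : residue A s = 0) :
    (scaleRoots P s).map (residue A) = X ^ p := by
  ext i
  rw [coeff_map, coeff_scaleRoots, h.natDegree, coeff_X_pow, map_mul, map_pow, hs]
  split_ifs with hi
  · rw [hi, Nat.sub_self, pow_zero, mul_one, ← h.natDegree, h.monic.coeff_natDegree, map_one]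
  · rcases lt_or_gt_of_ne hi with hlt | hgt
    · rw [zero_pow (by omega), mul_zero]
    · rw [coeff_eq_zero_of_natDegree_lt (by rw [h.natDegree]; exact hgt), map_zero, zero_mul]

/-- Case (C): pole order divisible by `p`, leading coefficient not a `p`-th power. -/
theorem caseC (hgen : K⟮z⟯ = ⊤) (π : A) (hπ : Irreducible π) (n : ℕ) (a : A) (hn : 0 < n)
    (hpn : p ∣ n) (ha : ∀ r : A, residue A a ≠ residue A r ^ p)
    (hξ : ξ * algebraMap A K π ^ n = algebraMap A K a) : Case4 p A L := by
  obtain ⟨m, rfl⟩ := hpn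
  have hmpos : 0 < m := by
    rcases Nat.eq_zero_or_pos m with h0 | h0
    · rw [h0, mul_zero] at hn; omega
    · exact h0
  have hπL0 : algebraMap A L π ≠ 0 := fun h0 =>
    hπ.ne_zero (algebraMap_injective' A K L (h0.trans (map_zero _).symm))
  have hξL : algebraMap K L ξ * algebraMap A L π ^ (p * m) = algebraMap A L a := by
    rw [IsScalarTower.algebraMap_apply A K L, IsScalarTower.algebraMap_apply A K L, ← map_pow,
      ← map_mul, hξ]
  have hs : residue A (π ^ m) = 0 := by
    rw [residue_eq_zero_iff]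
    exact Ideal.pow_mem_of_mem _ ((IsLocalRing.mem_maximalIdeal _).mpr hπ.not_isUnit) _ hmpos
  set y : L := algebraMap A L (π ^ m) * z with hy
  have hQ : (scaleRoots P (π ^ m) - C a).Monic := by
    apply Monic.sub_of_left ((monic_scaleRoots_iff _).mpr h.monic)
    rw [degree_eq_natDegree ((monic_scaleRoots_iff _).mpr h.monic).ne_zero, natDegree_scaleRoots,
      h.natDegree]
    exact lt_of_le_of_lt degree_C_le (by exact_mod_cast h.hp.pos)
  have hroot : aeval y (scaleRoots P (π ^ m) - C a) = 0 := by
    rw [map_sub, aeval_C, hy, aeval_def, scaleRoots_eval₂_mul, ← aeval_def, hz, h.natDegree,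
      map_pow, ← pow_mul, mul_comm m p, mul_comm, hξL, sub_self]
  have hQmap : (scaleRoots P (π ^ m) - C a).map (residue A) = X ^ p - C (residue A a) := by
    rw [Polynomial.map_sub, map_C, h.scaleRoots_map hs]
  have hgen' : Algebra.adjoin K {y} = ⊤ := by
    rw [eq_top_iff, ← h.adjoin_eq_top hz hgen]
    apply Algebra.adjoin_le
    intro x hx
    rw [Set.mem_singleton_iff] at hx
    rw [hx]
    have hc : algebraMap A L (π ^ m) = algebraMap K L (algebraMap A K (π ^ m)) :=
      IsScalarTower.algebraMap_apply A K L _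
    have hne : algebraMap A L (π ^ m) ≠ 0 := by rw [map_pow]; exact pow_ne_zero _ hπL0
    have hz' : z = y * algebraMap K L ((algebraMap A K (π ^ m))⁻¹) := by
      rw [hy, map_inv₀, ← hc, mul_comm (algebraMap A L (π ^ m)) z, mul_assoc,
        mul_inv_cancel₀ hne, mul_one]
    rw [hz']
    exact Subalgebra.mul_mem _ (Algebra.subset_adjoin rfl) (Subalgebra.algebraMap_mem _ _)
  exact case4_of_mono h.hp hπ hQ hroot hgen' a hQmap ha

end Gen

end KumData

end Groth.Agent.Lib.Helper18.Kum
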