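import Mathlib
import Groth.Prelude.Def_EtRam
import Groth.Agent.Lib.Helper18.Kum.Cases

/-! # Kummer extensions `y ^ p = c`: reduction to `c` a principal unit -/

set_option autoImplicit false
set_option linter.style.haveILetI false

namespace Groth.Agent.Lib.Helper18.Kum

open Polynomial IntermediateField IsLocalRing
open Groth.Agent.Lib.Helper18.Unram Groth.Agent.Lib.Helper18.Eis Groth.Agent.Lib.Helper18.AS

universe u

variable {p : ℕ} {A K L : Type u} [CommRing A] [IsDomain A]
  [IsDiscreteValuationRing A] [Field K] [Algebra A K] [IsFractionRing A K] [Field L] [Algebra K L]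
  [Algebra A L] [IsScalarTower A K L]

omit [Algebra A L] in
theorem adjoin_mul_algebraMap (y : L) {k : K} (hk : k ≠ 0) :
    K⟮y * algebraMap K L k⟯ = K⟮y⟯ := by
  have hk' : algebraMap K L k ≠ 0 := by rw [Ne, map_eq_zero]; exact hk
  apply le_antisymm
  · rw [adjoin_simple_le_iff]
    exact mul_mem (mem_adjoin_simple_self K y) (IntermediateField.algebraMap_mem _ _)
  · rw [adjoin_simple_le_iff]
    have h1 := mul_mem (mem_adjoin_simple_self K (y * algebraMap K L k))
      (inv_mem (IntermediateField.algebraMap_mem K⟮y * algebraMap K L k⟯ k))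
    rwa [mul_assoc, mul_inv_cancel₀ hk', mul_one] at h1

omit [Algebra A L] in
theorem adjoin_eq_top_of_simple [FiniteDimensional K L] {x : L} (hx : K⟮x⟯ = ⊤) :
    Algebra.adjoin K {x} = ⊤ := by
  have hint : IsIntegral K x := Algebra.IsIntegral.isIntegral x
  have h1 := adjoin_simple_toSubalgebra_of_isAlgebraic hint.isAlgebraic
  rw [hx] at h1
  rw [← h1]
  rfl

/-- Reduction of a Kummer extension `y ^ p = c` of the fraction field of a DVR: either the
extension is trivial, totally ramified or of type (4), or `c` can be taken to be a principal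
unit. -/
theorem reduce_kummer (hp : p.Prime) [CharP (ResidueField A) p] [FiniteDimensional K L]
    (hdeg : Module.finrank K L = 1 ∨ Module.finrank K L = p) (π : A)
    (hπ : maximalIdeal A = Ideal.span {π}) {y : L} {c : K} (hy : y ^ p = algebraMap K L c)
    (hgen : K⟮y⟯ = ⊤) :
    (Module.finrank K L = 1 ∨ Case3 p A K L ∨ Case4 p A L) ∨
      ∃ (y₂ : L) (c₂ : A), y₂ ^ p = algebraMap A L c₂ ∧ K⟮y₂⟯ = ⊤ ∧ residue A c₂ = 1 := by
  have hirr : Irreducible π := (IsDiscreteValuationRing.irreducible_iff_uniformizer π).mpr hπ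
  have hϖ : algebraMap A K π ≠ 0 := fun h0 =>
    hirr.ne_zero (IsFractionRing.injective A K (h0.trans (map_zero _).symm))
  by_cases hc0 : c = 0
  · left; left
    rw [hc0, map_zero] at hy
    have hy0 : y = 0 := (pow_eq_zero_iff hp.ne_zero).mp hy
    exact (trivial_of_mem hgen ⟨0, by rw [map_zero, hy0]⟩).2
  obtain ⟨j, u, hu⟩ :=
    IsDiscreteValuationRing.exists_units_eq_smul_zpow_of_irreducible (K := K) hirr hc0
  rw [Units.smul_def, Algebra.smul_def] at hu
  have hy0 : y ≠ 0 := by
    intro h0
    rw [h0, zero_pow hp.ne_zero] at hy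
    exact hc0 ((map_eq_zero (algebraMap K L)).mp hy.symm)
  by_cases hj : (p : ℤ) ∣ j
  · obtain ⟨i, rfl⟩ := hj
    set k₁ : K := algebraMap A K π ^ (-i) with hk₁
    have hk₁0 : k₁ ≠ 0 := zpow_ne_zero _ hϖ
    set y₁ : L := y * algebraMap K L k₁ with hy₁
    have hy₁p : y₁ ^ p = algebraMap A L (u : A) := by
      rw [hy₁, mul_pow, hy, ← map_pow, ← map_mul, IsScalarTower.algebraMap_apply A K L]
      congr 1
      rw [hu, hk₁, ← zpow_natCast (_ ^ (-i)) p, ← zpow_mul, mul_assoc, ← zpow_add₀ hϖ]
      have : (p : ℤ) * i + -i * (p : ℤ) = 0 := by ring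
      rw [this, zpow_zero, mul_one]
    have hgen₁ : K⟮y₁⟯ = ⊤ := by rw [hy₁, adjoin_mul_algebraMap y hk₁0, hgen]
    by_cases hr : ∃ r : A, residue A (u : A) = residue A r ^ p
    · right
      obtain ⟨r, hr⟩ := hr
      have hures : residue A (u : A) ≠ 0 := (residue_ne_zero_iff_isUnit _).mpr u.isUnit
      have hru : IsUnit r := by
        rw [← residue_ne_zero_iff_isUnit]
        intro h0
        rw [h0, zero_pow hp.ne_zero] at hr
        exact hures hr
      obtain ⟨ru, rfl⟩ := hru
      set k₂ : K := algebraMap A K ((ru⁻¹ : Aˣ) : A) with hk₂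
      have hk₂0 : k₂ ≠ 0 := by
        intro h0
        have : ((ru⁻¹ : Aˣ) : A) = 0 := IsFractionRing.injective A K (h0.trans (map_zero _).symm)
        exact (ru⁻¹).ne_zero this
      refine ⟨y₁ * algebraMap K L k₂, (u : A) * ((ru⁻¹ : Aˣ) : A) ^ p, ?_, ?_, ?_⟩
      · rw [mul_pow, hy₁p, hk₂, ← IsScalarTower.algebraMap_apply A K L, ← map_pow, ← map_mul]
      · rw [adjoin_mul_algebraMap y₁ hk₂0, hgen₁]
      · rw [map_mul, map_pow, hr, ← mul_pow, ← map_mul, Units.mul_inv, map_one, one_pow]
    · left; right; right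
      push_neg at hr
      haveI : Fact p.Prime := ⟨hp⟩
      have hroot : aeval y₁ (X ^ p - C (u : A) : A[X]) = 0 := by
        rw [map_sub, map_pow, aeval_X, aeval_C, hy₁p, sub_self]
      have hQmap : (X ^ p - C (u : A) : A[X]).map (residue A) = X ^ p - C (residue A (u : A)) := by
        rw [Polynomial.map_sub, Polynomial.map_pow, map_X, map_C]
      exact case4_of_mono hp hirr (monic_X_pow_sub_C _ hp.ne_zero) hroot
        (adjoin_eq_top_of_simple hgen₁) (u : A) hQmap hr
  · left; right; left
    refine case3_of_val_pow hp hdeg π hπ y hy0 j hj ?_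
    intro V hV
    rw [← map_pow, hy, hu, map_mul, map_zpow₀, map_mul, map_zpow₀,
      ← IsScalarTower.algebraMap_apply, ← IsScalarTower.algebraMap_apply, val_unit V hV u, one_mul]

end Groth.Agent.Lib.Helper18.Kum
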