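import Mathlib
import Groth.Prelude.Def_EtRam
import Groth.Agent.Lib.Helper18.Kum.Reduce

/-! # Kummer-type extensions: the four cases in general -/

set_option autoImplicit false
set_option linter.style.haveILetI false

namespace Groth.Agent.Lib.Helper18.Kum

open Polynomial IntermediateField IsLocalRing
open Groth.Agent.Lib.Helper18.Unram Groth.Agent.Lib.Helper18.Eis Groth.Agent.Lib.Helper18.AS

universe u

variable {p : ℕ} {A K L : Type u} [CommRing A] [IsDomain A]
  [IsDiscreteValuationRing A] [Field K] [Algebra A K] [IsFractionRing A K] [Field L] [Algebra K L]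
  [Algebra A L] [IsScalarTower A K L] [CharP (ResidueField A) p]

namespace KumData

variable {ζ : A} {P : A[X]} (h : KumData p ζ P)
include h

/-- The four cases when the pole order of `ξ` is smaller than that of `w ^ (-p)`. -/
theorem four_cases_small (π : A) (hπ : maximalIdeal A = Ideal.span {π}) (e₀ : ℕ) (ω : Aˣ)
    (hw : 1 - ζ = ω * π ^ e₀) :
    ∀ n : ℕ, n < p * e₀ → ∀ (ξ : K) (z : L), aeval z P = algebraMap K L ξ → K⟮z⟯ = ⊤ →
      (∃ a : A, ξ * algebraMap A K π ^ n = algebraMap A K a) →
      Module.finrank K L = 1 ∨ Case2 p A K L ∨ Case3 p A K L ∨ Case4 p A L := by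
  have hirr : Irreducible π := (IsDiscreteValuationRing.irreducible_iff_uniformizer π).mpr hπ
  have hϖ : algebraMap A K π ≠ 0 := fun h0 =>
    hirr.ne_zero (IsFractionRing.injective A K (h0.trans (map_zero _).symm))
  have hp1 := h.hp.one_lt
  have hπres : residue A π = 0 := by
    rw [residue_eq_zero_iff, hπ]; exact Ideal.mem_span_singleton_self π
  have hwL := h.wL_ne_zero (L := L) K
  intro n
  induction n using Nat.strong_induction_on with
  | _ n ih =>
    intro hnlt ξ z hz hgen ⟨a, ha⟩
    rcases Nat.eq_zero_or_pos n with h0 | hn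
    · subst h0
      rw [pow_zero, mul_one] at ha
      rcases h.caseA hz hgen π hirr a ha.symm with h1 | h1
      · exact Or.inl h1
      · exact Or.inr (Or.inl h1)
    by_cases hau : IsUnit a
    · obtain ⟨u, rfl⟩ := hau
      by_cases hpn : p ∣ n
      · by_cases hr : ∃ r : A, residue A (u : A) = residue A r ^ p
        · obtain ⟨r, hr⟩ := hr
          obtain ⟨m, rfl⟩ := hpn
          have hmpos : 0 < m := by
            rcases Nat.eq_zero_or_pos m with h0 | h0
            · rw [h0, mul_zero] at hn; omega
            · exact h0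
          have hme : m < e₀ := Nat.lt_of_mul_lt_mul_left hnlt
          obtain ⟨k, hk⟩ : ∃ k, e₀ = m + (k + 1) := ⟨e₀ - m - 1, by omega⟩
          obtain ⟨e1, he1⟩ : ∃ e1, p * m = e1 + 1 := ⟨p * m - 1, by omega⟩
          set β : A := ω * π ^ (k + 1) with hβ
          have hwβ : 1 - ζ = β * π ^ m := by rw [hw, hk, hβ, pow_add]; ring
          have hβres : residue A β = 0 := by
            rw [hβ, map_mul, map_pow, hπres, zero_pow (Nat.succ_ne_zero k), mul_zero]
          set b : A := 1 + β * r with hb
          have hbres : residue A b = 1 := by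
            rw [hb, map_add, map_one, map_mul, hβres, zero_mul, add_zero]
          have hbu : IsUnit b := by
            rw [← residue_ne_zero_iff_isUnit, hbres]; exact one_ne_zero
          obtain ⟨bu, hbu'⟩ := hbu
          have hs : residue A (π ^ m) = 0 := by
            rw [map_pow, hπres, zero_pow hmpos.ne']
          set g : A := eval r (scaleRoots P (π ^ m)) with hg
          have hgres : residue A g = residue A r ^ p := by
            rw [hg, ← eval₂_at_apply, ← eval_map, h.scaleRoots_map hs, eval_pow, eval_X]
          have hmem : (u : A) - g ∈ maximalIdeal A := by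
            rw [← residue_eq_zero_iff, map_sub, hgres, hr, sub_self]
          rw [hπ, Ideal.mem_span_singleton] at hmem
          obtain ⟨c, hc⟩ := hmem
          set ϖ : K := algebraMap A K π with hϖdef
          set ρ : K := algebraMap A K r with hρ
          set η : K := ρ / ϖ ^ m with hη
          have hηX : algebraMap A K (π ^ m) * η = ρ := by
            rw [map_pow, hη, mul_div_cancel₀ _ (pow_ne_zero _ hϖ)]
          have hPη : ϖ ^ (p * m) * aeval η P = algebraMap A K g := by
            have h1 := scaleRoots_eval₂_mul (p := P) (algebraMap A K) η (π ^ m)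
            rw [hηX, hρ, eval₂_at_apply, h.natDegree, ← aeval_def] at h1
            rw [hg, h1, map_pow, ← pow_mul, mul_comm m p]
          have hbK : algebraMap A K b = 1 + algebraMap A K (1 - ζ) * η := by
            rw [hwβ, map_mul (algebraMap A K) β (π ^ m), mul_assoc, hηX, hb, map_add, map_one,
              map_mul]
          have hbK0 : algebraMap A K b ≠ 0 := by
            intro h0
            have : b = 0 := IsFractionRing.injective A K (h0.trans (map_zero _).symm)
            rw [← hbu'] at this
            exact bu.ne_zero this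
          have hbL : algebraMap A L b =
              1 + algebraMap A L (1 - ζ) * algebraMap K L η := by
            rw [IsScalarTower.algebraMap_apply A K L, hbK, map_add, map_one, map_mul,
              ← IsScalarTower.algebraMap_apply]
          have hbL0 : algebraMap A L b ≠ 0 := by
            rw [IsScalarTower.algebraMap_apply A K L, Ne, map_eq_zero]; exact hbK0
          set ξ' : K := (ξ - aeval η P) / algebraMap A K b ^ p with hξ'
          set z' : L := (z - algebraMap K L η) / algebraMap A L b with hz'
          have hz'b : z' * algebraMap A L b = z - algebraMap K L η := div_mul_cancel₀ _ hbL0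
          refine ih e1 (by omega) (by omega) ξ' z' ?_ ?_ ⟨c * ((bu⁻¹ : Aˣ) : A) ^ p, ?_⟩
          · apply mul_left_cancel₀ (pow_ne_zero p hwL)
            rw [aeval_P h.hP z']
            have h1 : 1 + algebraMap A L (1 - ζ) * z' =
                (1 + algebraMap A L (1 - ζ) * z) / algebraMap A L b := by
              rw [eq_div_iff hbL0, add_mul, one_mul, mul_assoc, hz'b, hbL]; ring
            have h2 : (1 + algebraMap A L (1 - ζ) * z) ^ p =
                algebraMap A L (1 - ζ) ^ p * algebraMap K L ξ + 1 := by
              rw [← hz, aeval_P h.hP z]; ring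
            have h3 : algebraMap A L b ^ p =
                algebraMap A L (1 - ζ) ^ p * algebraMap K L (aeval η P) + 1 := by
              rw [hbL, ← aeval_algebraMap_apply, aeval_P h.hP]; ring
            have hξ'L : algebraMap K L ξ' =
                (algebraMap K L ξ - algebraMap K L (aeval η P)) / algebraMap A L b ^ p := by
              rw [hξ', map_div₀, map_sub (algebraMap K L), map_pow (algebraMap K L),
                ← IsScalarTower.algebraMap_apply A K L b]
            rw [h1, div_pow, h2, div_sub_one (pow_ne_zero p hbL0), hξ'L, mul_div_assoc']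
            congr 1
            rw [h3]; ring
          · rw [eq_top_iff, ← hgen, adjoin_simple_le_iff]
            have hbmem : algebraMap A L b ∈ K⟮z'⟯ := by
              rw [IsScalarTower.algebraMap_apply A K L]
              exact IntermediateField.algebraMap_mem _ _
            have h1 := add_mem (mul_mem (mem_adjoin_simple_self K z') hbmem)
              (IntermediateField.algebraMap_mem K⟮z'⟯ η)
            rwa [hz'b, sub_add_cancel] at h1
          · have hinv : algebraMap A K ((bu⁻¹ : Aˣ) : A) = (algebraMap A K b)⁻¹ := by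
              apply eq_inv_of_mul_eq_one_left
              rw [← map_mul, ← hbu', Units.inv_mul, map_one]
            have hnum : (ξ - aeval η P) * ϖ ^ e1 = algebraMap A K c := by
              apply mul_right_cancel₀ hϖ
              rw [mul_assoc, ← pow_succ, ← he1, sub_mul, ha, mul_comm (aeval η P), hPη, ← map_sub,
                hc, map_mul, mul_comm]
            rw [hξ', div_mul_eq_mul_div, hnum, map_mul, map_pow, hinv, inv_pow, div_eq_mul_inv]
        · push_neg at hr
          exact Or.inr (Or.inr (Or.inr (h.caseC hz hgen π hirr n u hn hpn hr ha)))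
      · exact Or.inr (Or.inr (Or.inl (h.caseB hz hgen π hπ n u hn hpn ha)))
    · have hmem : a ∈ maximalIdeal A := (mem_maximalIdeal a).mpr hau
      rw [hπ, Ideal.mem_span_singleton] at hmem
      obtain ⟨a', rfl⟩ := hmem
      obtain ⟨e, he⟩ : ∃ e, n = e + 1 := ⟨n - 1, by omega⟩
      refine ih e (by omega) (by omega) ξ z hz hgen ⟨a', ?_⟩
      apply mul_right_cancel₀ hϖ
      rw [mul_assoc, ← pow_succ, ← he, ha, map_mul, mul_comm]

/-- Every Kummer-type extension `P(z) = ξ` of the fraction field of a DVR falls under one of the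
four cases. -/
theorem four_cases (π : A) (hπ : maximalIdeal A = Ideal.span {π}) {ξ : K} {z : L}
    (hz : aeval z P = algebraMap K L ξ) (hgen : K⟮z⟯ = ⊤) :
    Module.finrank K L = 1 ∨ Case2 p A K L ∨ Case3 p A K L ∨ Case4 p A L := by
  have hirr : Irreducible π := (IsDiscreteValuationRing.irreducible_iff_uniformizer π).mpr hπ
  have hϖ : algebraMap A K π ≠ 0 := fun h0 =>
    hirr.ne_zero (IsFractionRing.injective A K (h0.trans (map_zero _).symm))
  have hw0 : 1 - ζ ≠ 0 := w_ne_zero h.hp h.prim
  have hwL := h.wL_ne_zero (L := L) K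
  have hwK := h.wK_ne_zero K
  obtain ⟨e₀, ω, hω⟩ := IsDiscreteValuationRing.eq_unit_mul_pow_irreducible hw0 hirr
  have he₀ : 0 < e₀ := by
    rcases Nat.eq_zero_or_pos e₀ with h0 | h0
    · exfalso
      rw [h0, pow_zero, mul_one] at hω
      have hmem := w_mem h.hp h.prim
      rw [hω] at hmem
      exact (IsLocalRing.mem_maximalIdeal _).mp hmem ω.isUnit
    · exact h0
  haveI := h.finiteDimensional hz hgen
  rcases reduce_kummer h.hp (h.galois hz hgen).2 π hπ (h.y_pow hz)
    (by rw [h.adjoin_y, hgen]) with h1 | ⟨y₂, c₂, hy₂, hgen₂, hc₂⟩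
  · rcases h1 with h1 | h1 | h1
    · exact Or.inl h1
    · exact Or.inr (Or.inr (Or.inl h1))
    · exact Or.inr (Or.inr (Or.inr h1))
  · have hmem : c₂ - 1 ∈ maximalIdeal A := by
      rw [← residue_eq_zero_iff, map_sub, hc₂, map_one, sub_self]
    rw [hπ, Ideal.mem_span_singleton] at hmem
    obtain ⟨d, hd⟩ := hmem
    set z₂ : L := (y₂ - 1) / algebraMap A L (1 - ζ) with hz₂def
    set ξ₂ : K := (algebraMap A K c₂ - 1) / algebraMap A K (1 - ζ) ^ p with hξ₂
    have hyz : 1 + algebraMap A L (1 - ζ) * z₂ = y₂ := by
      rw [hz₂def, mul_div_cancel₀ _ hwL]; ring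
    have hz₂ : aeval z₂ P = algebraMap K L ξ₂ := by
      apply mul_left_cancel₀ (pow_ne_zero p hwL)
      have hξ₂L : algebraMap K L ξ₂ =
          (algebraMap A L c₂ - 1) / algebraMap A L (1 - ζ) ^ p := by
        rw [hξ₂, map_div₀, map_sub (algebraMap K L), map_one, map_pow (algebraMap K L),
          ← IsScalarTower.algebraMap_apply, ← IsScalarTower.algebraMap_apply]
      rw [aeval_P h.hP z₂, hyz, hy₂, hξ₂L, mul_div_cancel₀ _ (pow_ne_zero p hwL)]
    have hgen₂' : K⟮z₂⟯ = ⊤ := by rw [← h.adjoin_y z₂, hyz, hgen₂]
    obtain ⟨e1, he1⟩ : ∃ e1, p * e₀ = e1 + 1 :=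
      ⟨p * e₀ - 1, by have := Nat.mul_pos h.hp.pos he₀; omega⟩
    refine h.four_cases_small π hπ e₀ ω hω e1 (by omega) ξ₂ z₂ hz₂ hgen₂'
      ⟨d * ((ω⁻¹ : Aˣ) : A) ^ p, ?_⟩
    have hinv : algebraMap A K ((ω⁻¹ : Aˣ) : A) = (algebraMap A K (ω : A))⁻¹ := by
      apply eq_inv_of_mul_eq_one_left
      rw [← map_mul, Units.inv_mul, map_one]
    have hωK : algebraMap A K (ω : A) ≠ 0 := by
      intro h0
      exact ω.ne_zero (IsFractionRing.injective A K (h0.trans (map_zero _).symm))
    have hwp : algebraMap A K (1 - ζ) ^ p =
        algebraMap A K (ω : A) ^ p * (algebraMap A K π ^ e1 * algebraMap A K π) := by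
      rw [← pow_succ, ← he1, hω, map_mul, map_pow, mul_pow, ← pow_mul, mul_comm e₀ p]
    have hnum : algebraMap A K c₂ - 1 = algebraMap A K π * algebraMap A K d := by
      rw [← map_one (algebraMap A K), ← map_sub, hd, map_mul]
    rw [hξ₂, hnum, hwp, map_mul, map_pow, hinv, inv_pow]
    field_simp

end KumData

end Groth.Agent.Lib.Helper18.Kum
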